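import Cfsg.Agent.H859.Five.Core
import Cfsg.Agent.H859.Five.RepDeg
import Cfsg.Agent.H690.Spor.Trans
import Cfsg.Agent.H863.BFin
import Cfsg.Agent.BM.KHAll
import Cfsg.Agent.H419.Row
import Cfsg.Agent.S2084
import Cfsg.Agent.S0000

/-!
# The Baby Monster has at least five character degrees (helper859, for S4898)
-/

set_option autoImplicit false

namespace Cfsg.Agent.H859.Five

open Cfsg Subgroup

universe u

open Cfsg.Agent.Monster.VecEngine Cfsg.Agent.Monster.VecSpace Cfsg.Agent.BabyM.Conc Cfsg.Agent.BabyM in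
theorem mem_B : 4371 ∈ charDegrees Spor.BabyMonster := by
  have h1 := mem_degs_of_rep (K := H863.BRep.G) (H863.BRep.sigma (F := ℂ) two_ne_zero)
    ⟨fun _ => 1, fun h => by
      have h2 := congrFun h (Fintype.equivOfCardEq (card_lane.trans (Fintype.card_fin 4371).symm)|>.symm ⟨0, by norm_num⟩)
      exact one_ne_zero h2⟩
    (fun U hU => H863.BFin.irred two_ne_zero U hU)
  rw [Module.finrank_fintype_fun_eq_card, card_lane] at h1
  rwa [H424.DegTools.charDegrees_congr BM.KHAll.iso.symm] at h1

theorem deg_B : 5 ≤ (charDegrees Spor.BabyMonster).ncard := by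
  have hB : Cfsg.IsB Cfsg.Spor.BabyMonster := BM.KHAll.isB
  have hcard : Nat.card Spor.BabyMonster = 4154781481226426191177580544000000 := hB.2
  have hfin : Finite Spor.BabyMonster := Nat.finite_of_card_ne_zero (by rw [hcard]; norm_num)
  have hs : IsSimpleGroup Spor.BabyMonster := hB.1
  have hna : ¬ IsMulCommutative Spor.BabyMonster := by
    intro h
    let _ : CommGroup Spor.BabyMonster := { (inferInstance : Group Spor.BabyMonster) with mul_comm := h.is_comm.comm }
    have h1 := IsSimpleGroup.prime_card (α := Spor.BabyMonster)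
    rw [hcard] at h1
    norm_num at h1
  refine five_of hna fun a b c h => ?_
  obtain ⟨d, hd, hpd⟩ := exists_of_dz (p := 23) (by norm_num) (by rw [hcard]; norm_num)
    (H690.Spor.Trans.b (fun _ _ _ _ => S0000.result) ⟨MulEquiv.refl _⟩ (Or.inl rfl))
  have hd1 : d ≠ 1 := by rintro rfl; norm_num at hpd
  obtain ⟨x, y, h'⟩ := h.last hd hd1
  -- the degree 4371
  have key : ∀ {x y : ℕ}, Deg4 Spor.BabyMonster x y d → x = 4371 → False := by
    rintro x y h' rfl
    obtain ⟨e, he, he2, hr⟩ := exists_rel (p := 23) hna (by norm_num) (by norm_num) (by rw [hcard]; norm_num)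
      (by rw [hcard]; norm_num) h'
    exact b_false (hr.drop (by norm_num) he he2 hpd) he he2 h'.b2 (hcard ▸ H424.DegTools.dvd_card h'.mb)
  have h1 := mem_B
  rw [h'.eq] at h1
  simp only [Set.mem_insert_iff, Set.mem_singleton_iff] at h1
  rcases h1 with h1 | h1 | h1 | h1
  · norm_num at h1
  · exact key h' h1.symm
  · exact key h'.swap h1.symm
  · rw [← h1] at hpd
    norm_num at hpd

/-- **the Baby Monster** -/
theorem five_B {G : Type u} [Group G] [Finite G] (M : Subgroup G) (hM : M.Normal)
    (hc : Subgroup.centralizer (M : Set G) = ⊥) (h : Cfsg.Spor.IsoB M) : 5 ≤ (Cfsg.charDegrees G).ncard := by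
  obtain ⟨e⟩ := h
  obtain ⟨f⟩ := exists_iso M hM hc e (H419.Row.inner_of_out S2084.result)
  rw [H424.DegTools.charDegrees_congr f]
  exact deg_B

end Cfsg.Agent.H859.Five
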