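import Cfsg.Agent.H859.Five.Core
import Cfsg.Agent.H859.Five.RepDeg
import Cfsg.Agent.H713.Spor.M
import Cfsg.Agent.H847.MonDeg
import Cfsg.Agent.H419.Row
import Cfsg.Agent.S5540
import Cfsg.Agent.S2085

/-!
# The Monster has at least five character degrees (helper859, for S4898)
-/

set_option autoImplicit false

namespace Cfsg.Agent.H859.Five

open Cfsg Subgroup

universe u

theorem bound_M : Bound Spor.Monster 196883 := fun _ _ _ _ ρ h => Cfsg.Agent.H847.MonDeg.bound ρ h

theorem card_M : Nat.card Spor.Monster = 808017424794512875886459904961710757005754368000000000 :=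
  H713.Spor.M.card_eq ⟨MulEquiv.refl _⟩

theorem simple_M : IsSimpleGroup Spor.Monster := Cfsg.Agent.MonsterP.Equiv.isM.1

theorem mem_M : 196883 ∈ charDegrees Spor.Monster := by
  have hcard := card_M
  have hfin : Finite Spor.Monster := Nat.finite_of_card_ne_zero (by rw [hcard]; norm_num)
  have hs := simple_M
  obtain ⟨ρ, hρ, -⟩ := S5540.result
  obtain ⟨g, hg⟩ := exists_ne (1 : Spor.Monster)
  refine bound_M.mem (cplx ρ) ⟨g, cplx_ne ρ fun h => hg ?_⟩
  apply hρ
  rw [map_one]
  exact h

theorem deg_M : 5 ≤ (charDegrees Spor.Monster).ncard := by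
  have hcard := card_M
  have hfin : Finite Spor.Monster := Nat.finite_of_card_ne_zero (by rw [hcard]; norm_num)
  have hs := simple_M
  have hna : ¬ IsMulCommutative Spor.Monster := by
    intro h
    let _ : CommGroup Spor.Monster := { (inferInstance : Group Spor.Monster) with mul_comm := h.is_comm.comm }
    have h1 := IsSimpleGroup.prime_card (α := Spor.Monster)
    rw [hcard] at h1
    norm_num at h1
  refine five_of hna fun a b c h => ?_
  obtain ⟨d, hd, hpd⟩ := exists_of_dz (p := 29) (by norm_num) (by rw [hcard]; norm_num)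
    (H713.Spor.M.hasDZ_29 ⟨MulEquiv.refl _⟩)
  have hd1 : d ≠ 1 := by rintro rfl; norm_num at hpd
  obtain ⟨x, y, h'⟩ := h.last hd hd1
  -- the degree 196883
  have key : ∀ {x y : ℕ}, Deg4 Spor.Monster x y d → x = 196883 → False := by
    rintro x y h' rfl
    obtain ⟨e, he, he2, hr⟩ := exists_rel (p := 29) hna (by norm_num) (by norm_num) (by rw [hcard]; norm_num)
      (by rw [hcard]; norm_num) h'
    exact m_false (hr.drop (by norm_num) he he2 hpd) he he2 (bound_M.le h'.mb h'.b1)
  have h1 := mem_M
  rw [h'.eq] at h1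
  simp only [Set.mem_insert_iff, Set.mem_singleton_iff] at h1
  rcases h1 with h1 | h1 | h1 | h1
  · norm_num at h1
  · exact key h' h1.symm
  · exact key h'.swap h1.symm
  · rw [← h1] at hpd
    norm_num at hpd

/-- **the Monster** -/
theorem five_M {G : Type u} [Group G] [Finite G] (M : Subgroup G) (hM : M.Normal)
    (hc : Subgroup.centralizer (M : Set G) = ⊥) (h : Cfsg.Spor.IsoM M) : 5 ≤ (Cfsg.charDegrees G).ncard := by
  obtain ⟨e⟩ := h
  obtain ⟨f⟩ := exists_iso M hM hc e (H419.Row.inner_of_out S2085.result)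
  rw [H424.DegTools.charDegrees_congr f]
  exact deg_M

end Cfsg.Agent.H859.Five
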