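import Cfsg.Agent.H713.Invol
import Cfsg.Agent.H713.Spor.Tool
import Cfsg.Agent.H94.Sp.Base
import Cfsg.Agent.Solvable.Hall
import Cfsg.Agent.H474.TP.RowsE
import Cfsg.Agent.TypeM.FactsLy
import Mathlib.GroupTheory.SpecificGroups.ZGroup

/-!
# `Ly`: a character of 67-defect zero (helper859, for S4898)

If there is none then an element `x` of order `67` is inverted by an involution `t` and `|C(x) ∩ C(t)|` is
`35`, `105`, `4725` or `14175`. But `C(t) = 2.A_11` has no subgroup of such an order.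
-/

set_option autoImplicit false

namespace Cfsg.Agent.H859.Five.LyDZ

open Cfsg Subgroup Cfsg.Agent.TypeM.Two Cfsg.Agent.H665.NoPQ Equiv

theorem exists_dvd_of_lcm {p : ℕ} (hp : p.Prime) (s : Multiset ℕ) (h : p ∣ s.lcm) : ∃ n ∈ s, p ∣ n := by
  induction s using Multiset.induction with
  | empty =>
    rw [Multiset.lcm_zero, Nat.dvd_one] at h
    exact absurd h hp.one_lt.ne'
  | cons a s ih =>
    rw [Multiset.lcm_cons] at h
    have h1 : p ∣ Nat.lcm a s.lcm := h
    rcases (hp.dvd_mul).1 (h1.trans (Nat.lcm_dvd_mul a s.lcm)) with h2 | h2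
    · exact ⟨a, Multiset.mem_cons_self a s, h2⟩
    · obtain ⟨n, hn, hpn⟩ := ih h2
      exact ⟨n, Multiset.mem_cons_of_mem hn, hpn⟩

theorem no35 (σ : Perm (Fin 11)) : orderOf σ ≠ 35 := by
  intro h
  rw [← Perm.lcm_cycleType] at h
  obtain ⟨m, hm, h7⟩ := exists_dvd_of_lcm (p := 7) (by norm_num) σ.cycleType (by rw [h]; norm_num)
  obtain ⟨n, hn, h5⟩ := exists_dvd_of_lcm (p := 5) (by norm_num) σ.cycleType (by rw [h]; norm_num)
  have hsum : σ.cycleType.sum ≤ 11 := by
    rw [Perm.sum_cycleType]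
    simpa using Finset.card_le_univ σ.support
  have hm2 := Perm.two_le_of_mem_cycleType hm
  have hn2 := Perm.two_le_of_mem_cycleType hn
  have hm7 := Nat.le_of_dvd (by omega) h7
  have hn5 := Nat.le_of_dvd (by omega) h5
  have hmle : m ≤ 11 := (Multiset.single_le_sum (fun _ _ => Nat.zero_le _) m hm).trans hsum
  have hm' : m = 7 := by
    obtain ⟨k, hk⟩ := h7
    omega
  have hne : m ≠ n := by
    rintro rfl
    rw [hm'] at h5
    norm_num at h5
  obtain ⟨s, hs⟩ := Multiset.exists_cons_of_mem hm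
  rw [hs] at hn hsum
  have hn' : n ∈ s := (Multiset.mem_cons.1 hn).resolve_left hne.symm
  have h1 := Multiset.single_le_sum (fun _ _ => Nat.zero_le _) n hn'
  rw [Multiset.sum_cons] at hsum
  omega

/-- a group of order `35` or `105` has an element of order `35` -/
theorem exists35 {D : Type*} [Group D] [Finite D] (h : Nat.card D = 35 ∨ Nat.card D = 105) :
    ∃ d : D, orderOf d = 35 := by
  have key : ∀ {K : Type _} [Group K] [Finite K], Nat.card K = 35 → ∃ d : K, orderOf d = 35 := by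
    intro K _ _ hK
    have hcyc : IsCyclic K := by
      refine Cfsg.Agent.H94.PG.Sp.isCyclic_of_card (by rw [hK]; decide +kernel) (by rw [hK]; decide +kernel)
    obtain ⟨g, hg⟩ := hcyc.exists_generator
    exact ⟨g, by rw [orderOf_eq_card_of_forall_mem_zpowers hg, hK]⟩
  rcases h with h | h
  · exact key h
  · have hz : IsZGroup D := IsZGroup.of_squarefree (by rw [h]; decide +kernel)
    have hsol : Group.IsSolvable D := inferInstance
    obtain ⟨L, hL⟩ := Cfsg.Agent.Solvable.Hall.hall_exists (G := D) 35 3 (by rw [h]) (by norm_num)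
    obtain ⟨d, hd⟩ := key hL
    exact ⟨(d : D), by rw [Subgroup.orderOf_coe, hd]⟩

section

variable {G : Type*} [Group G] [Finite G] (L : MT 11 G)

include L

/-- subgroups of `C(t)` of odd order -/
theorem card_ne {t : G} (ht : t * t = 1) (ht1 : t ≠ 1) {D : Subgroup G} (hD : ¬ 2 ∣ Nat.card D)
    (hDt : D ≤ centralizer ({t} : Set G)) :
    Nat.card D ≤ 2079 ∧ Nat.card D ≠ 35 ∧ Nat.card D ≠ 105 := by
  obtain ⟨g, hg⟩ := L.one t ht ht1
  set D' := D.map (MulAut.conj g⁻¹).toMonoidHom with hD'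
  have hc : Nat.card D' = Nat.card D :=
    (Nat.card_congr (D.equivMapOfInjective _ (MulAut.conj g⁻¹).injective).toEquiv).symm
  have hle : D' ≤ centralizer ({L.t} : Set G) := by
    rintro x ⟨d, hd, rfl⟩
    have h1 := mem_centralizer_singleton_iff.1 (hDt hd)
    rw [mem_centralizer_singleton_iff]
    have h2 : L.t = g⁻¹ * t * g := by rw [← hg]; group
    change g⁻¹ * d * g⁻¹⁻¹ * L.t = L.t * (g⁻¹ * d * g⁻¹⁻¹)
    rw [h2]
    calc g⁻¹ * d * g⁻¹⁻¹ * (g⁻¹ * t * g) = g⁻¹ * (d * t) * g := by group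
      _ = g⁻¹ * (t * d) * g := by rw [h1]
      _ = g⁻¹ * t * g * (g⁻¹ * d * g⁻¹⁻¹) := by group
  have hodd : ¬ 2 ∣ Nat.card D' := by rwa [hc]
  have h1 := Cfsg.Agent.H474.TPRows.card_le_mt (by norm_num) L hodd hle
  rw [show Cfsg.Agent.H474.OddPerm.g 11 = 2079 from rfl, hc] at h1
  -- no element of order 35
  have h35 : ∀ d : D', orderOf d ≠ 35 := by
    intro d hd
    have h2 : orderOf (L.K.π (inclusion hle d)) ∣ 35 := by
      rw [← hd, ← orderOf_injective _ (inclusion_injective hle) d]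
      exact orderOf_map_dvd L.K.π _
    have h3 : (L.K.π (inclusion hle d)) ^ orderOf (L.K.π (inclusion hle d)) = 1 := pow_orderOf_eq_one _
    rw [← map_pow, ← map_pow] at h3
    have h4 : d ^ orderOf (L.K.π (inclusion hle d)) = 1 := by
      rcases (L.K.ker _).1 h3 with h | h
      · exact inclusion_injective hle (by rw [h, map_one])
      · exfalso
        apply hodd
        have h5 : orderOf (d ^ orderOf (L.K.π (inclusion hle d))) = 2 := by
          rw [← orderOf_injective _ (inclusion_injective hle), h]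
          exact orderOf_eq_prime (by rw [pow_two]; exact L.K.z_mul_z) L.K.z_ne
        rw [← h5]
        exact orderOf_dvd_natCard _
    have h5 := orderOf_dvd_of_pow_eq_one h4
    rw [hd] at h5
    exact no35 _ (Nat.dvd_antisymm h2 h5)
  refine ⟨h1, fun h => ?_, fun h => ?_⟩
  · obtain ⟨d, hd⟩ := exists35 (D := D') (Or.inl (hc.trans h))
    exact h35 d hd
  · obtain ⟨d, hd⟩ := exists35 (D := D') (Or.inr (hc.trans h))
    exact h35 d hd

end

theorem card_ly : Nat.card Spor.Ly = 51765179004000000 := Cfsg.Agent.Ly.Setup.card_ly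

theorem arith (e a b : ℕ) (he : e ∣ 66) (he2 : Even e) (hb : b ∣ 39916800) (hb2 : Odd b)
    (h1 : (e * (a * b)) % 67 = 22) (h2 : (a * 39916800) % 67 = 22) : b = 35 ∨ b = 105 ∨ 2079 < b := by
  have hb' : b ∣ 155925 := by
    have h3 : Nat.Coprime b (2 ^ 8) := Nat.Coprime.pow_right 8 (Nat.coprime_two_right.2 hb2)
    exact h3.dvd_of_dvd_mul_left (by norm_num; exact hb)
  obtain ⟨b1, b2, hb1, hb3, rfl⟩ : ∃ b1 b2, b1 ∣ 81 ∧ b2 ∣ 1925 ∧ b1 * b2 = b := by
    obtain ⟨b1, b2, h3, h4, h5⟩ := (Nat.dvd_mul (m := 81) (n := 1925)).1 (by norm_num; exact hb')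
    exact ⟨b1, b2, h3, h4, h5⟩
  have hb1m : b1 ∈ [1, 3, 9, 27, 81] :=
    mem_divisors_list' (by norm_num) hb1 (by decide +kernel)
  have hb2m : b2 ∈ [1, 5, 7, 11, 25, 35, 55, 77, 175, 275, 385, 1925] :=
    mem_divisors_list' (by norm_num) hb3 (by decide +kernel)
  have hem : e ∈ [1, 2, 3, 6, 11, 22, 33, 66] := mem_divisors_list' (by norm_num) he (by decide)
  have ha' : a % 67 = 62 := by
    rw [Nat.mul_mod] at h2
    norm_num at h2
    omega
  have key : ∀ e ∈ [1, 2, 3, 6, 11, 22, 33, 66], ∀ b1 ∈ [1, 3, 9, 27, 81],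
      ∀ b2 ∈ [1, 5, 7, 11, 25, 35, 55, 77, 175, 275, 385, 1925],
      e % 2 = 0 → (e * (62 * (b1 * b2))) % 67 = 22 → b1 * b2 = 35 ∨ b1 * b2 = 105 ∨ 2079 < b1 * b2 := by
    decide +kernel
  refine key e hem b1 hb1m b2 hb2m (Nat.even_iff.1 he2) ?_
  rw [← h1, Nat.mul_mod, Nat.mul_mod 62, Nat.mul_mod e, Nat.mul_mod a, ha']
where
  mem_divisors_list' {n e : ℕ} (hn : 0 < n) (he : e ∣ n) {E : List ℕ}
      (h : ∀ d ∈ List.range (n + 1), n % d = 0 → d ∈ E) : e ∈ E :=
    h e (List.mem_range.2 (Nat.lt_succ_of_le (Nat.le_of_dvd hn he))) (Nat.mod_eq_zero_of_dvd he)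

instance fact67 : Fact (Nat.Prime 67) := ⟨by norm_num⟩

theorem hasDZ_67 : HasDZ 67 Spor.Ly := by
  have hfin : Finite Spor.Ly := Cfsg.Agent.Ly.Setup.finite_ly
  obtain ⟨L⟩ := Cfsg.Agent.TypeM.FactsLy.exists_mt_ly
  have hct : Nat.card (centralizer ({L.t} : Set Spor.Ly)) = 39916800 := by
    rw [Cfsg.Agent.H474.TPRows.card_cover (by norm_num) L.K]; rfl
  have hm : ∀ u : Spor.Ly, orderOf u = 2 → Nat.card (centralizer ({u} : Set Spor.Ly)) = 39916800 := by
    intro u hu
    obtain ⟨g, hg⟩ := L.one u (by rw [← pow_two, ← hu, pow_orderOf_eq_one]) (by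
      rintro rfl
      rw [orderOf_one] at hu
      norm_num at hu)
    rw [← hct]
    exact Cfsg.Agent.Blocks.SylowIn.card_centralizer_of_isConj (isConj_iff.2 ⟨g, hg⟩)
  refine Cfsg.Agent.H713.hasDZ_of_card (by norm_num)
    (by rw [card_ly]; exact Cfsg.Agent.H713.factorization_eq_one (by norm_num) (by norm_num))
    (by rw [card_ly]; norm_num) (m := 39916800) hm (by norm_num) ?_
  intro e a b x t hx ht hb he he2 hbm hbo hao hd h1 h2
  rw [card_ly] at h1 h2
  norm_num at he h1 h2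
  have h3 := arith e a b he he2 hbm hbo (by norm_num; exact h1) (by norm_num; exact h2)
  obtain ⟨h4, h5, h6⟩ := card_ne L (t := t) (by rw [← pow_two, ← ht, pow_orderOf_eq_one]) (by
    rintro rfl
    rw [orderOf_one] at ht
    norm_num at ht) (D := centralizer ({x} : Set Spor.Ly) ⊓ centralizer ({t} : Set Spor.Ly))
    (by rw [hb]; exact fun h => (Nat.not_even_iff_odd.2 hbo) (even_iff_two_dvd.2 h)) inf_le_right
  rw [hb] at h4 h5 h6
  omega

end Cfsg.Agent.H859.Five.LyDZ
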