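import Cfsg.Agent.H859.Five.Core
import Cfsg.Agent.H723.Spor.Th
import Cfsg.Agent.H419.Row

/-!
# The Thompson group has at least five character degrees (helper859, for S4898)
-/

set_option autoImplicit false

namespace Cfsg.Agent.H859.Five

open Cfsg Subgroup

universe u

theorem deg_th : 5 ≤ (charDegrees Spor.Th).ncard := by
  have hcard : Nat.card Spor.Th = 90745943887872000 := H723.Spor.Th.card_th
  have hfin : Finite Spor.Th := Nat.finite_of_card_ne_zero (by rw [hcard]; norm_num)
  have hs : IsSimpleGroup Spor.Th := S1700.result.1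
  have hna : ¬ IsMulCommutative Spor.Th := by
    intro h
    letI : CommGroup Spor.Th := { (inferInstance : Group Spor.Th) with mul_comm := h.is_comm.comm }
    have h1 := IsSimpleGroup.prime_card (α := Spor.Th)
    rw [hcard] at h1
    norm_num at h1
  refine five_of hna fun a b c h => ?_
  obtain ⟨d, hd, hpd⟩ := exists_of_dz (p := 31) (by norm_num) (by rw [hcard]; norm_num) H723.Spor.Th.hasDZ_31
  obtain ⟨x, y, h'⟩ := h.last hd (by rintro rfl; norm_num at hpd)
  obtain ⟨e, he, he2, hr⟩ := exists_rel (p := 31) hna (by norm_num) (by norm_num) (by rw [hcard]; norm_num)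
    (by rw [hcard]; norm_num) h'
  obtain ⟨e', he', he2', hr'⟩ := exists_rel (p := 19) hna (by norm_num) (by norm_num) (by rw [hcard]; norm_num)
    (by rw [hcard]; norm_num) h'
  have hd2 := h'.c2
  have hdv : ∀ z ∈ charDegrees Spor.Th, z ∣ 90745943887872000 := fun z hz => hcard ▸ H424.DegTools.dvd_card hz
  exact th_false hr he he2 hr' he' he2' hpd h'.a2 h'.b2 (by omega) (hdv _ h'.ma) (hdv _ h'.mb) (hdv _ h'.mc)

/-- **the Thompson group** -/
theorem five_Th {G : Type u} [Group G] [Finite G] (M : Subgroup G) (hM : M.Normal)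
    (hc : Subgroup.centralizer (M : Set G) = ⊥) (h : Cfsg.Spor.IsoTh M) : 5 ≤ (Cfsg.charDegrees G).ncard := by
  obtain ⟨e⟩ := h
  obtain ⟨f⟩ := exists_iso M hM hc e (H419.Row.inner_of_out S2083.result)
  rw [H424.DegTools.charDegrees_congr f]
  exact deg_th

end Cfsg.Agent.H859.Five
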