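import Cfsg.Agent.H859.Five.Num

/-!
# Elimination of a third degree, and of a pair with a known degree (helper859, for S4898)
-/

set_option autoImplicit false

namespace Cfsg.Agent.H859.Five

theorem not_sg_of_mod {p a : ℕ} (hp : 2 ≤ p) (h1 : a % p ≠ 1) (h2 : a % p ≠ p - 1) {s : ℤ} (hs : Sg s) :
    ¬ (p : ℤ) ∣ s * a - 1 := by
  intro h
  have h3 := mod_of_sg hp h
  rcases hs with rfl | rfl
  · exact h1 (h3.1 rfl)
  · exact h2 (h3.2 rfl)

/-- `a` cannot be the exceptional degree when all other members have the same degree -/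
def okF (p : ℕ) (E : List ℕ) (a : ℕ) : Bool :=
  E.all fun e => (!(Nat.beq ((a + e) % p) 0) || !(Nat.beq ((a + 1) % (e - 1)) 0)) &&
    (!(Nat.beq ((a + (p - e)) % p) 0) || !(Nat.beq ((a - 1) % (e - 1)) 0))

theorem okF_spec {p e a c : ℕ} {E : List ℕ} (h : okF p E a = true) (he : e ∈ E) (hep : e < p) (ha : 2 ≤ a)
    {n : ℕ} (hn : n + 1 = e) {s t : ℤ} (hs : Sg s) (ht : Sg t) (h1 : (p : ℤ) ∣ (a : ℤ) + e * s)
    (h2 : 1 + t * n * c + s * (a : ℤ) = 0) : False := by
  unfold okF at h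
  rw [List.all_eq_true] at h
  have h3 := h e he
  rw [Bool.and_eq_true, Bool.or_eq_true, Bool.or_eq_true] at h3
  simp only [Bool.not_eq_true', ← Bool.not_eq_true, Nat.beq_eq] at h3
  obtain ⟨h3, h4⟩ := h3
  rcases hs with rfl | rfl
  · rcases h3 with h3 | h3
    · apply h3
      have h5 : (p : ℤ) ∣ ((a + e : ℕ) : ℤ) := by push_cast; simpa using h1
      exact Nat.mod_eq_zero_of_dvd (by exact_mod_cast h5)
    · apply h3
      have h5 : (n : ℤ) ∣ ((a + 1 : ℕ) : ℤ) := by
        refine ⟨-(t * c), ?_⟩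
        push_cast
        linear_combination h2
      have h6 : n ∣ a + 1 := by exact_mod_cast h5
      have h7 : e - 1 = n := by omega
      rw [h7]
      exact Nat.mod_eq_zero_of_dvd h6
  · rcases h4 with h4 | h4
    · apply h4
      have h5 : (p : ℤ) ∣ ((a + (p - e) : ℕ) : ℤ) := by
        push_cast [Nat.cast_sub hep.le]
        have : (a : ℤ) + (p - e) = (a + e * (-1)) + p := by ring
        rw [this]
        exact dvd_add h1 dvd_rfl
      exact Nat.mod_eq_zero_of_dvd (by exact_mod_cast h5)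
    · apply h4
      have h5 : (n : ℤ) ∣ ((a - 1 : ℕ) : ℤ) := by
        refine ⟨t * c, ?_⟩
        push_cast [Nat.cast_sub (by omega : 1 ≤ a)]
        linear_combination -h2
      have h6 : n ∣ a - 1 := by exact_mod_cast h5
      have h7 : e - 1 = n := by omega
      rw [h7]
      exact Nat.mod_eq_zero_of_dvd h6

/-- **two degrees which do not lie in the block** -/
theorem kill {p e a b c : ℕ} {E : List ℕ} (h : Rel p e a b c) (hp : 2 ≤ p) (hep : e < p) (he2 : 2 ≤ e) (he : e ∈ E)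
    (ha : 2 ≤ a) (hb : 2 ≤ b) (hc : 3 ≤ c) (ha1 : a % p ≠ 1) (ha2 : a % p ≠ p - 1) (hb1 : b % p ≠ 1)
    (hb2 : b % p ≠ p - 1) (hfa : okF p E a = true) (hfb : okF p E b = true) : False := by
  obtain ⟨na, nb, nc, sa, sb, sc, s, f, h1, h2, h3, h4, h5, h6, h7, h8, h9, h10, h11⟩ := h
  have hna : na = 0 := by
    by_contra hne
    exact not_sg_of_mod hp ha1 ha2 h1 (h7 hne)
  have hnb : nb = 0 := by
    by_contra hne
    exact not_sg_of_mod hp hb1 hb2 h2 (h8 hne)
  subst hna hnb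
  have hnc : nc + 1 = e := by omega
  have hcz : (3 : ℤ) ≤ c := by exact_mod_cast hc
  have hnz : (1 : ℤ) ≤ nc := by
    have : 1 ≤ nc := by omega
    exact_mod_cast this
  have hprod : (3 : ℤ) ≤ nc * c := by nlinarith
  simp only [Nat.cast_zero, mul_zero, zero_mul, add_zero] at h11
  rcases h5 with rfl | rfl | rfl | rfl
  · rw [Nat.cast_one] at h11
    rcases h3 with rfl | rfl <;> rcases h4 with rfl | rfl <;> linarith
  · exact okF_spec (c := c) hfa he hep ha hnc h4 h3 h10 (by linarith)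
  · exact okF_spec (c := c) hfb he hep hb hnc h4 h3 h10 (by linarith)
  · have h12 : (f : ℤ) ∣ 1 := ⟨-(sc * nc + s), by linear_combination h11⟩
    have h13 : f ∣ 1 := by exact_mod_cast h12
    have := Nat.le_of_dvd one_pos h13
    omega

theorem Bg.symm {p a b : ℕ} (h : Bg p a b) : Bg p b a := by
  obtain ⟨A, B, hA, hB, h1, h2, h3⟩ := h
  refine ⟨B, A, hB, hA, ?_, h3, h2⟩
  rcases h1 with ⟨h4, h5 | h5⟩ | ⟨h4, h5 | h5⟩
  · exact Or.inl ⟨by omega, Or.inr h5.symm⟩
  · exact Or.inl ⟨by omega, Or.inl h5.symm⟩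
  · exact Or.inr ⟨by omega, Or.inr h5.symm⟩
  · exact Or.inr ⟨by omega, Or.inl h5.symm⟩

/-- no `b ≥ 2` with `a = (e - 1) b ± 1`, `b ∣ N` -/
def okT (p N : ℕ) (E : List ℕ) (a : ℕ) : Bool :=
  E.all fun e => (!(Nat.beq ((a - 1) % (e - 1)) 0) || (!(Nat.beq ((a - 1) / (e - 1) % p) 1) ||
      !(Nat.beq (N % ((a - 1) / (e - 1))) 0))) &&
    (!(Nat.beq ((a + 1) % (e - 1)) 0) || (!(Nat.beq ((a + 1) / (e - 1) % p) (p - 1)) ||
      !(Nat.beq (N % ((a + 1) / (e - 1))) 0)))

theorem okT_spec {p N e a b : ℕ} {E : List ℕ} (h : okT p N E a = true) (he : e ∈ E) (he2 : 2 ≤ e) (hbN : b ∣ N)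
    (hS : Sm p e a b) : False := by
  unfold okT at h
  rw [List.all_eq_true] at h
  have h3 := h e he
  rw [Bool.and_eq_true, Bool.or_eq_true, Bool.or_eq_true, Bool.or_eq_true, Bool.or_eq_true] at h3
  simp only [Bool.not_eq_true', ← Bool.not_eq_true, Nat.beq_eq] at h3
  obtain ⟨h3, h4⟩ := h3
  have h5 : 0 < e - 1 := by omega
  have h6 : N % b = 0 := Nat.mod_eq_zero_of_dvd hbN
  rcases hS with ⟨h7, h8⟩ | ⟨h7, h8⟩
  · have h9 : a - 1 = (e - 1) * b := by omega
    rw [h9, Nat.mul_mod_right, Nat.mul_div_cancel_left b h5, h7, h6] at h3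
    simp at h3
  · rw [h8, Nat.mul_mod_right, Nat.mul_div_cancel_left b h5, h7, h6] at h4
    simp at h4

/-- **a pair with a known degree** -/
theorem known {p e a b N : ℕ} {E : List ℕ} (h : Rel2 p e a b) (hp : p.Prime) (hp5 : 5 ≤ p)
    (he : e ∣ p - 1) (he2 : 2 ≤ e) (ha : 2 ≤ a) (hb : 2 ≤ b) (hbN : b ∣ N) (hE : e ∈ E)
    (h1 : okS p N E [] a = true) (h2 : okB p N [] a = true) (h3 : okT p N E a = true) : False := by
  rcases h.cases hp hp5 he he2 ha hb with h4 | h4 | ⟨-, h4 | h4⟩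
  · exact okT_spec h3 hE he2 hbN h4
  · exact absurd (okS_spec (by omega) h1 hE hb ha hbN h4) (by simp)
  · exact absurd (okB_spec h2 hb ha hbN h4.symm) (by simp)
  · exact absurd (okB_spec h2 hb ha hbN h4) (by simp)

/-! ### The numbers -/

section Th

def lTh : List (ℕ × ℕ) := [(2, 15), (3, 10), (5, 3), (7, 2), (13, 1), (19, 1), (31, 1)]

def LTh : List (ℕ × ℕ) := [(64, 63), (126, 125), (65, 32), (30, 32), (32, 30), (125, 216), (216, 125), (342, 650),
  (650, 342), (931, 27000), (27000, 931)]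

set_option maxRecDepth 100000 in
theorem th_S : allDiv lTh 1 (okS 31 90745943887872000 [2, 3, 5, 6, 10, 15, 30] LTh) = true := by decide +kernel

set_option maxRecDepth 100000 in
theorem th_B : allDiv lTh 1 (okB 31 90745943887872000 LTh) = true := by decide +kernel

theorem lTh_prod : prodq lTh = 90745943887872000 := by decide +kernel

theorem mem_divisors_list {n e : ℕ} (hn : 0 < n) (he : e ∣ n) (he2 : 2 ≤ e) {E : List ℕ}
    (h : ∀ d ∈ List.range (n + 1), 2 ≤ d → n % d = 0 → d ∈ E) : e ∈ E :=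
  h e (List.mem_range.2 (Nat.lt_succ_of_le (Nat.le_of_dvd hn he))) he2 (Nat.mod_eq_zero_of_dvd he)

theorem th_false {e e' a b c : ℕ} (h31 : Rel 31 e a b c) (he : e ∣ 30) (he2 : 2 ≤ e) (h19 : Rel 19 e' a b c)
    (he' : e' ∣ 18) (he2' : 2 ≤ e') (hc : 31 ∣ c) (ha : 2 ≤ a) (hb : 2 ≤ b) (hc2 : 3 ≤ c)
    (haN : a ∣ 90745943887872000) (hbN : b ∣ 90745943887872000) (hcN : c ∣ 90745943887872000) : False := by
  have hE : e ∈ [2, 3, 5, 6, 10, 15, 30] := mem_divisors_list (by norm_num) he he2 (by decide)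
  have hE' : e' ∈ [2, 3, 6, 9, 18] := mem_divisors_list (by norm_num) he' he2' (by decide)
  have hle' := Nat.le_of_dvd (by norm_num) he'
  have h1 := pairs (h31.drop (by norm_num) he he2 hc) (by norm_num) (by norm_num) he he2 ha hb haN hbN
    (by decide +kernel) lTh_prod hE th_S th_B
  -- in either order
  have key : ∀ {a b : ℕ}, (a, b) ∈ LTh → Rel 19 e' a b c → False := by
    intro a b hab hr
    simp only [LTh, List.mem_cons, Prod.mk.injEq, List.not_mem_nil, or_false] at hab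
    have kk : ∀ {a b : ℕ}, Rel 19 e' a b c → 2 ≤ a → 2 ≤ b → a % 19 ≠ 1 → a % 19 ≠ 18 → b % 19 ≠ 1 → b % 19 ≠ 18 →
        okF 19 [2, 3, 6, 9, 18] a = true → okF 19 [2, 3, 6, 9, 18] b = true → False :=
      fun hr ha hb h1 h2 h3 h4 h5 h6 => kill hr (by norm_num) (by omega) he2' hE' ha hb hc2 h1 h2 h3 h4 h5 h6
    have k2 : ∀ {x y : ℕ}, x = 931 → y = 27000 → Rel 19 e' x y c → False := by
      rintro x y rfl rfl hr
      have hr2 := (hr.rot.drop (by norm_num) he' he2' (by norm_num) : Rel2 19 e' 27000 c)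
      exact known hr2 (by norm_num) (by norm_num) he' he2' (by norm_num) (by omega) hcN hE'
        (by decide +kernel) (by decide +kernel) (by decide +kernel)
    rcases hab with ⟨rfl, rfl⟩ | ⟨rfl, rfl⟩ | ⟨rfl, rfl⟩ | ⟨rfl, rfl⟩ | ⟨rfl, rfl⟩ | ⟨rfl, rfl⟩ | ⟨rfl, rfl⟩ |
      ⟨rfl, rfl⟩ | ⟨rfl, rfl⟩ | ⟨rfl, rfl⟩ | ⟨rfl, rfl⟩
    all_goals first
      | exact k2 rfl rfl hr
      | exact k2 rfl rfl hr.swap
      | exact kk hr (by norm_num) (by norm_num) (by norm_num) (by norm_num) (by norm_num) (by norm_num)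
          (by decide +kernel) (by decide +kernel)
  rcases h1 with h1 | h1
  · exact key h1 h19
  · exact key h1 h19.swap

end Th

section Ly

def lLy : List (ℕ × ℕ) := [(2, 8), (3, 7), (5, 6), (7, 1), (11, 1), (31, 1), (37, 1), (67, 1)]

def LLy : List (ℕ × ℕ) := [(999, 200)]

set_option maxRecDepth 100000 in
theorem ly_S : allDiv lLy 1 (okS 67 51765179004000000 [2, 3, 6, 11, 22, 33, 66] LLy) = true := by decide +kernel

set_option maxRecDepth 100000 in
theorem ly_B : allDiv lLy 1 (okB 67 51765179004000000 LLy) = true := by decide +kernel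

theorem lLy_prod : prodq lLy = 51765179004000000 := by decide +kernel

theorem ly_false {e e' a b c : ℕ} (h67 : Rel 67 e a b c) (he : e ∣ 66) (he2 : 2 ≤ e) (h37 : Rel 37 e' a b c)
    (he' : e' ∣ 36) (he2' : 2 ≤ e') (hc : 67 ∣ c) (ha : 2 ≤ a) (hb : 2 ≤ b) (hc2 : 3 ≤ c)
    (haN : a ∣ 51765179004000000) (hbN : b ∣ 51765179004000000) : False := by
  have hE : e ∈ [2, 3, 6, 11, 22, 33, 66] := mem_divisors_list (by norm_num) he he2 (by decide)
  have hE' : e' ∈ [2, 3, 4, 6, 9, 12, 18, 36] := mem_divisors_list (by norm_num) he' he2' (by decide)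
  have hle' := Nat.le_of_dvd (by norm_num) he'
  have h1 := pairs (h67.drop (by norm_num) he he2 hc) (by norm_num) (by norm_num) he he2 ha hb haN hbN
    (by decide +kernel) lLy_prod hE ly_S ly_B
  have key : ∀ {a b : ℕ}, (a, b) ∈ LLy → Rel 37 e' a b c → False := by
    intro a b hab hr
    simp only [LLy, List.mem_cons, Prod.mk.injEq, List.not_mem_nil, or_false] at hab
    obtain ⟨rfl, rfl⟩ := hab
    exact kill hr (by norm_num) (by omega) he2' hE' (by norm_num) (by norm_num) hc2 (by norm_num) (by norm_num)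
      (by norm_num) (by norm_num) (by decide +kernel) (by decide +kernel)
  rcases h1 with h1 | h1
  · exact key h1 h37
  · exact key h1 h37.swap

end Ly

section B

theorem b_false {e b : ℕ} (h23 : Rel2 23 e 4371 b) (he : e ∣ 22) (he2 : 2 ≤ e) (hb : 2 ≤ b)
    (hbN : b ∣ 4154781481226426191177580544000000) : False :=
  known h23 (by norm_num) (by norm_num) he he2 (by norm_num) hb hbN
    (E := [2, 11, 22]) (mem_divisors_list (by norm_num) he he2 (by decide))
    (by decide +kernel) (by decide +kernel) (by decide +kernel)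

end B

section M

theorem m_false {e b : ℕ} (h29 : Rel2 29 e 196883 b) (he : e ∣ 28) (he2 : 2 ≤ e) (hb : 196883 ≤ b) : False := by
  rcases h29.cases (by norm_num) (by norm_num) he he2 (by norm_num) (by omega) with h4 | h4 | ⟨-, h4 | h4⟩
  · have h5 : b ≤ (e - 1) * b := Nat.le_mul_of_pos_left b (by omega)
    rcases h4 with ⟨h6, h7⟩ | ⟨h6, h7⟩
    · omega
    · have h8 : b ≤ 196884 := by omega
      have h9 : b = 196883 ∨ b = 196884 := by omega
      rcases h9 with rfl | rfl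
      · norm_num at h6
      · norm_num at h6
  · rcases h4 with ⟨h6, -⟩ | ⟨h6, -⟩ <;> norm_num at h6
  · obtain ⟨A, B, -, -, -, -, h | h⟩ := h4 <;> norm_num at h
  · obtain ⟨A, B, -, -, -, h | h, -⟩ := h4 <;> norm_num at h

end M

end Cfsg.Agent.H859.Five
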