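import Cfsg.Agent.H638.FD.Blk
import Cfsg.Agent.H424.DegTools
import Cfsg.Agent.SmallSimple.BurnsideNC
import Cfsg.Agent.H597.ThreeDegD
import Cfsg.Agent.H665.NoPQ
import Cfsg.Agent.H859.Five.Kill

/-!
# Simple groups with four character degrees: the framework (helper859, for S4898)
-/

set_option autoImplicit false

namespace Cfsg.Agent.H859.Five

open Cfsg Subgroup

universe u v

/-- the degrees are `1, a, b, c` -/
structure Deg4 (G : Type u) [Group G] (a b c : ℕ) : Prop where
  eq : charDegrees G = {1, a, b, c}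
  a1 : a ≠ 1
  b1 : b ≠ 1
  c1 : c ≠ 1
  ab : a ≠ b
  ac : a ≠ c
  bc : b ≠ c

section

variable {G : Type u} [Group G] {a b c : ℕ}

theorem Deg4.swap (h : Deg4 G a b c) : Deg4 G b a c :=
  ⟨by rw [h.eq]; ext x; simp only [Set.mem_insert_iff, Set.mem_singleton_iff]; tauto, h.b1, h.a1, h.c1, h.ab.symm,
    h.bc, h.ac⟩

theorem Deg4.rot (h : Deg4 G a b c) : Deg4 G b c a :=
  ⟨by rw [h.eq]; ext x; simp only [Set.mem_insert_iff, Set.mem_singleton_iff]; tauto, h.b1, h.c1, h.a1, h.bc,
    h.ab.symm, h.ac.symm⟩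

theorem Deg4.ma (h : Deg4 G a b c) : a ∈ charDegrees G := by rw [h.eq]; simp
theorem Deg4.mb (h : Deg4 G a b c) : b ∈ charDegrees G := by rw [h.eq]; simp
theorem Deg4.mc (h : Deg4 G a b c) : c ∈ charDegrees G := by rw [h.eq]; simp

theorem Deg4.a2 (h : Deg4 G a b c) : 2 ≤ a := by
  have := H424.DegTools.pos_of_mem h.ma
  have := h.a1
  omega

theorem Deg4.b2 (h : Deg4 G a b c) : 2 ≤ b := h.rot.a2
theorem Deg4.c2 (h : Deg4 G a b c) : 2 ≤ c := h.rot.rot.a2

/-- a given nonlinear degree is the last one -/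
theorem Deg4.last (h : Deg4 G a b c) {d : ℕ} (hd : d ∈ charDegrees G) (hd1 : d ≠ 1) : ∃ x y, Deg4 G x y d := by
  rw [h.eq] at hd
  simp only [Set.mem_insert_iff, Set.mem_singleton_iff] at hd
  rcases hd with rfl | rfl | rfl | rfl
  · exact absurd rfl hd1
  · exact ⟨_, _, h.rot⟩
  · exact ⟨_, _, h.rot.rot⟩
  · exact ⟨_, _, h⟩

end

section Finite

variable {G : Type u} [Group G] [Finite G]

theorem finite_degs : (charDegrees G).Finite := by
  refine Set.Finite.subset (s := ↑(Nat.card G).divisors) (Finset.finite_toSet _) ?_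
  intro d hd
  rw [Finset.mem_coe, Nat.mem_divisors]
  exact ⟨H424.DegTools.dvd_card hd, Nat.card_pos.ne'⟩

theorem comm_top [IsSimpleGroup G] (hna : ¬ IsMulCommutative G) : commutator G = ⊤ := by
  rcases (inferInstance : (commutator G).Normal).eq_bot_or_eq_top with h | h
  · exfalso
    apply hna
    refine ⟨⟨fun x y => ?_⟩⟩
    have h1 := Subgroup.commutator_mem_commutator (mem_top x) (mem_top y)
    change _ ∈ commutator G at h1
    rw [h, mem_bot] at h1
    exact commutatorElement_eq_one_iff_mul_comm.1 h1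
  · exact h

theorem not_solvable [IsSimpleGroup G] (hna : ¬ IsMulCommutative G) : ∀ n, derivedSeries G n ≠ ⊥ := by
  intro n h
  have h1 : ∀ k, derivedSeries G k = ⊤ := by
    intro k
    induction k with
    | zero => rfl
    | succ k ih => rw [derivedSeries_succ, ih]; exact comm_top hna
  have h2 := (h1 n).symm.trans h
  obtain ⟨x, hx⟩ := exists_ne (1 : G)
  apply hx
  have : x ∈ (⊤ : Subgroup G) := mem_top x
  rw [h2, mem_bot] at this
  exact this

/-- **the reduction to exactly four degrees** -/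
theorem five_of [IsSimpleGroup G] (hna : ¬ IsMulCommutative G) (h : ∀ a b c, Deg4 G a b c → False) :
    5 ≤ (charDegrees G).ncard := by
  classical
  by_contra hcon
  push Not at hcon
  set D := (finite_degs (G := G)).toFinset with hD
  have hDc : D.card = (charDegrees G).ncard := (Set.ncard_eq_toFinset_card _ _).symm
  have h1D : 1 ∈ D := by
    rw [hD, Set.Finite.mem_toFinset]
    exact H424.DegTools.one_mem_degrees
  have hE := Finset.card_erase_of_mem h1D
  have hmem : ∀ x, x ∈ charDegrees G ↔ x = 1 ∨ x ∈ D.erase 1 := by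
    intro x
    rw [Finset.mem_erase, hD, Set.Finite.mem_toFinset]
    constructor
    · intro hx
      by_cases h1 : x = 1
      · exact Or.inl h1
      · exact Or.inr ⟨h1, hx⟩
    · rintro (rfl | h1)
      · exact H424.DegTools.one_mem_degrees
      · exact h1.2
  -- three degrees
  have hcd3 : ∀ m n : ℕ, (∀ x ∈ D.erase 1, x = m ∨ x = n) → False := by
    intro m n hmn
    refine not_solvable hna 3 (H597.ThreeDegD.derived_three (m := m) (n := n) ?_)
    intro χ hχ
    have h1 : charDegree χ ∈ charDegrees G := ⟨⟨χ, hχ⟩, rfl⟩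
    rcases (hmem _).1 h1 with h2 | h2
    · exact Or.inl h2
    · exact Or.inr (hmn _ h2)
  have hle : (D.erase 1).card ≤ 3 := by omega
  interval_cases hk : (D.erase 1).card
  · rw [Finset.card_eq_zero] at hk
    exact hcd3 0 0 (by rw [hk]; simp)
  · obtain ⟨m, hm⟩ := Finset.card_eq_one.1 hk
    exact hcd3 m m (by rw [hm]; simp)
  · obtain ⟨m, n, -, hm⟩ := Finset.card_eq_two.1 hk
    exact hcd3 m n (by rw [hm]; simp)
  · obtain ⟨a, b, c, hab, hac, hbc, hm⟩ := Finset.card_eq_three.1 hk
    have hn1 : ∀ x ∈ D.erase 1, x ≠ 1 := fun x hx => (Finset.mem_erase.1 hx).1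
    refine h a b c ⟨?_, hn1 a (by rw [hm]; simp), hn1 b (by rw [hm]; simp), hn1 c (by rw [hm]; simp), hab, hac, hbc⟩
    ext x
    rw [hmem, hm]
    simp

/-- **the relation of the principal block** -/
theorem exists_rel [IsSimpleGroup G] (hna : ¬ IsMulCommutative G) {p : ℕ} (hp : p.Prime) (hp2 : p ≠ 2)
    (hd : p ∣ Nat.card G) (hsq : ¬ p * p ∣ Nat.card G) {a b c : ℕ} (h : Deg4 G a b c) :
    ∃ e, e ∣ p - 1 ∧ 2 ≤ e ∧ Rel p e a b c := by
  have : Fact p.Prime := ⟨hp⟩
  obtain ⟨P⟩ : Nonempty (Sylow p G) := inferInstance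
  have hcard : Nat.card P = p := by
    have h1 := P.card_eq_multiplicity
    have h2 : (Nat.card G).factorization p = 1 := by
      refine le_antisymm ?_ ((hp.dvd_iff_one_le_factorization Nat.card_pos.ne').1 hd)
      by_contra hlt
      push Not at hlt
      apply hsq
      have h3 := (hp.pow_dvd_iff_le_factorization Nat.card_pos.ne').2 (show 2 ≤ (Nat.card G).factorization p by omega)
      rwa [pow_two] at h3
    rw [h2, pow_one] at h1
    exact h1
  have hne : Nat.card G ≠ p := by
    intro h1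
    apply hna
    have : IsCyclic G := isCyclic_of_prime_card h1
    exact IsCyclic.isMulCommutative
  obtain ⟨e, he, he1, heq, -, -, -⟩ := Cfsg.Agent.SmallSimple.BurnsideNC.exists_automizer_of_card_eq_prime hne P hcard
  have he0 : e ≠ 0 := by
    rintro rfl
    rw [zero_dvd_iff] at he
    have := hp.two_le
    omega
  have hcyc : IsCyclic P := isCyclic_of_prime_card hcard
  have hN : ∀ N : Subgroup G, N.Normal → N.index ≠ p := by
    intro N hN hi
    rcases hN.eq_bot_or_eq_top with h1 | h1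
    · rw [h1, Subgroup.index_bot] at hi
      exact hne hi
    · rw [h1, Subgroup.index_top] at hi
      exact hp.one_lt.ne hi
  obtain ⟨n1, na, nb, nc, sa, sb, sc, s, f, h1, h2, h3, h4, h5, h6, h7, h8, h9, h10, h11, h12, h13⟩ :=
    H638.FD.Blk.degs hp2 P hcyc le_rfl (by rw [hcard, pow_one]) heq.symm hN (h.eq.le) h.a1 h.b1 h.c1 h.ab h.ac h.bc
  rw [comm_top hna, Subgroup.index_top] at h2
  have hn1 : n1 = 1 := le_antisymm h2 h1
  subst hn1
  rw [pow_one] at h8 h9 h10 h12
  refine ⟨e, he, by omega, na, nb, nc, sa, sb, sc, s, f, h4, h5, h6, h7, h11, h3, h8, h9, h10, h12, ?_⟩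
  rw [Nat.cast_one] at h13
  exact h13

/-- some degree is divisible by `p` -/
theorem exists_of_dz {p : ℕ} (hp : p.Prime) (hd : p ∣ Nat.card G) (h : H665.NoPQ.HasDZ p G) :
    ∃ d ∈ charDegrees G, p ∣ d := by
  obtain ⟨χ, hχ⟩ := h
  refine ⟨_, ⟨χ, rfl⟩, ?_⟩
  have h1 := (hp.dvd_iff_one_le_factorization Nat.card_pos.ne').1 hd
  rw [← hχ] at h1
  exact (hp.dvd_iff_one_le_factorization (Blocks.Basic.charDegree_pos χ.2).ne').2 h1

/-- `G` is its socle -/
theorem exists_iso {G : Type u} [Group G] (M : Subgroup G) (hM : M.Normal)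
    (hc : Subgroup.centralizer (M : Set G) = ⊥) {K : Type v} [Group K] (e : M ≃* K)
    (hin : ∀ α : MulAut K, ∃ g : K, α = MulAut.conj g) : Nonempty (G ≃* K) := by
  have htop : M = ⊤ := by
    rw [eq_top_iff]
    intro g _
    obtain ⟨k, hk⟩ := hin ((e.symm.trans (MulAut.conjNormal g)).trans e)
    obtain ⟨m, rfl⟩ := e.surjective k
    -- `m⁻¹ g` centralizes `M`
    have h1 : (m : G)⁻¹ * g ∈ Subgroup.centralizer (M : Set G) := by
      rw [Subgroup.mem_centralizer_iff]
      intro x hx
      have h2 := DFunLike.congr_fun hk (e ⟨x, hx⟩)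
      rw [MulEquiv.trans_apply, MulEquiv.trans_apply, MulEquiv.symm_apply_apply, MulAut.conj_apply, ← map_mul,
        ← map_inv, ← map_mul] at h2
      have h3 := congrArg (fun t : M => (t : G)) (e.injective h2)
      have h4 : g * x * g⁻¹ = m * x * (m : G)⁻¹ := h3
      have h5 : g * x = m * x * (m : G)⁻¹ * g := by rw [← h4]; group
      calc x * ((m : G)⁻¹ * g) = (m : G)⁻¹ * (m * x * (m : G)⁻¹ * g) := by group
        _ = (m : G)⁻¹ * g * x := by rw [← h5]; group
    rw [hc, Subgroup.mem_bot] at h1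
    have h2 : g = m := by
      rw [inv_mul_eq_one] at h1
      exact h1.symm
    rw [h2]
    exact m.2
  subst htop
  exact ⟨Subgroup.topEquiv.symm.trans e⟩

end Finite

end Cfsg.Agent.H859.Five
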