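import Cfsg.Agent.H859.Five.Rel

/-!
# Enumeration of the pairs of divisors satisfying the relation (helper859, for S4898)
-/

set_option autoImplicit false

namespace Cfsg.Agent.H859.Five

/-- run `f` on all products `v * ∏ q ^ i`, `i ≤ k` -/
def allDiv : List (ℕ × ℕ) → ℕ → (ℕ → Bool) → Bool
  | [], v, f => f v
  | (q, k) :: l, v, f => (List.range (k + 1)).all fun i => allDiv l (v * q ^ i) f

/-- the product -/
def prodq : List (ℕ × ℕ) → ℕ
  | [] => 1
  | (q, k) :: l => q ^ k * prodq l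

theorem allDiv_spec : ∀ {l : List (ℕ × ℕ)} {v : ℕ} {f : ℕ → Bool}, (∀ x ∈ l, x.1.Prime) →
    allDiv l v f = true → ∀ {w : ℕ}, w ∣ prodq l → f (v * w) = true
  | [], v, f, _, h, w, hw => by
    rw [prodq, Nat.dvd_one] at hw
    rw [hw, mul_one]
    exact h
  | (q, k) :: l, v, f, hl, h, w, hw => by
    rw [prodq] at hw
    obtain ⟨w1, w2, h1, h2, rfl⟩ := (Nat.dvd_mul).1 hw
    obtain ⟨i, hi, rfl⟩ := (Nat.dvd_prime_pow (hl _ List.mem_cons_self)).1 h1
    rw [allDiv, List.all_eq_true] at h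
    have h3 := h i (List.mem_range.2 (by omega))
    have h4 := allDiv_spec (fun x hx => hl x (List.mem_cons_of_mem _ hx)) h3 h2
    rwa [mul_assoc] at h4

/-- `u = num / A` is not a divisor `≥ 2`, or the pair is listed -/
def okU (N : ℕ) (L : List (ℕ × ℕ)) (b num A : ℕ) : Bool :=
  !(Nat.beq (num % A) 0) || (Nat.ble (num / A) 1 || (!(Nat.beq (N % (num / A)) 0) || L.contains (num / A, b)))

theorem okU_spec {N : ℕ} {L : List (ℕ × ℕ)} {a b num A : ℕ} (h : okU N L b num A = true) (hA : 0 < A)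
    (ha : 2 ≤ a) (haN : a ∣ N) (he : A * a = num) : (a, b) ∈ L := by
  have h1 : num % A = 0 := by rw [← he]; exact Nat.mul_mod_right A a
  have h2 : num / A = a := by rw [← he]; exact Nat.mul_div_cancel_left a hA
  have h3 : N % a = 0 := Nat.mod_eq_zero_of_dvd haN
  unfold okU at h
  rw [h1, h2, h3] at h
  have h4 : Nat.ble a 1 = false := by
    rw [← Bool.not_eq_true, Nat.ble_eq]
    omega
  rw [h4] at h
  simpa using h

/-- the check of `Sm` -/
def okS (p N : ℕ) (E : List ℕ) (L : List (ℕ × ℕ)) (b : ℕ) : Bool :=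
  Nat.ble b 1 || bif Nat.beq (b % p) 1 then E.all fun e => okU N L b ((e - 1) * b + 1) 1
    else bif Nat.beq (b % p) (p - 1) then E.all fun e => okU N L b ((e - 1) * b - 1) 1 else true

theorem okS_spec {p N : ℕ} {E : List ℕ} {L : List (ℕ × ℕ)} {e a b : ℕ} (hp : 3 ≤ p) (h : okS p N E L b = true)
    (he : e ∈ E) (ha : 2 ≤ a) (hb : 2 ≤ b) (haN : a ∣ N) (hS : Sm p e a b) : (a, b) ∈ L := by
  unfold okS at h
  have h1 : Nat.ble b 1 = false := by
    rw [← Bool.not_eq_true, Nat.ble_eq]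
    omega
  rw [h1, Bool.false_or] at h
  rcases hS with ⟨h2, h3⟩ | ⟨h2, h3⟩
  · have h4 : Nat.beq (b % p) 1 = true := by rw [Nat.beq_eq, h2]
    rw [h4, cond_true, List.all_eq_true] at h
    exact okU_spec (h e he) one_pos ha haN (by rw [one_mul]; exact h3)
  · have h4 : Nat.beq (b % p) 1 = false := by
      rw [← Bool.not_eq_true, Nat.beq_eq, h2]
      omega
    have h5 : Nat.beq (b % p) (p - 1) = true := by rw [Nat.beq_eq, h2]
    rw [h4, cond_false, h5, cond_true, List.all_eq_true] at h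
    exact okU_spec (h e he) one_pos ha haN (by rw [one_mul]; omega)

/-- `u = num / A` is not a divisor `≥ 2` congruent to `± 1`, or the pair is listed -/
def okV (p N : ℕ) (L : List (ℕ × ℕ)) (b num A : ℕ) : Bool :=
  !(Nat.beq (num % A) 0) || (Nat.ble (num / A) 1 || (!(Nat.beq (N % (num / A)) 0) ||
    (!(Nat.beq (num / A % p) 1 || Nat.beq (num / A % p) (p - 1)) || L.contains (num / A, b))))

theorem okV_spec {p N : ℕ} {L : List (ℕ × ℕ)} {a b num A : ℕ} (h : okV p N L b num A = true) (hA : 0 < A)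
    (ha : 2 ≤ a) (haN : a ∣ N) (hap : a % p = 1 ∨ a % p = p - 1) (he : A * a = num) : (a, b) ∈ L := by
  have h1 : num % A = 0 := by rw [← he]; exact Nat.mul_mod_right A a
  have h2 : num / A = a := by rw [← he]; exact Nat.mul_div_cancel_left a hA
  have h3 : N % a = 0 := Nat.mod_eq_zero_of_dvd haN
  unfold okV at h
  rw [h1, h2, h3] at h
  have h4 : Nat.ble a 1 = false := by
    rw [← Bool.not_eq_true, Nat.ble_eq]
    omega
  have h5 : (Nat.beq (a % p) 1 || Nat.beq (a % p) (p - 1)) = true := by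
    rw [Bool.or_eq_true, Nat.beq_eq, Nat.beq_eq]
    exact hap
  rw [h4, h5] at h
  simpa using h

/-- the check of `Bg` -/
def okB (p N : ℕ) (L : List (ℕ × ℕ)) (b : ℕ) : Bool :=
  Nat.ble b 1 || (!(Nat.beq (b % p) 1 || Nat.beq (b % p) (p - 1)) || (List.range (p - 1)).all fun A =>
    Nat.beq A 0 || (okV p N L b ((p - 2 - A) * b + 2) A && (okV p N L b ((p - 2 - A) * b - 2) A &&
      (okV p N L b ((p - 1 - A) * b + 1) A && okV p N L b ((p - 1 - A) * b - 1) A))))

theorem okB_spec {p N : ℕ} {L : List (ℕ × ℕ)} {a b : ℕ} (h : okB p N L b = true)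
    (ha : 2 ≤ a) (hb : 2 ≤ b) (haN : a ∣ N) (hS : Bg p a b) : (a, b) ∈ L := by
  obtain ⟨A, B, hA, hB, h2, h3, hap⟩ := hS
  unfold okB at h
  have h1 : Nat.ble b 1 = false := by
    rw [← Bool.not_eq_true, Nat.ble_eq]
    omega
  have h4 : (Nat.beq (b % p) 1 || Nat.beq (b % p) (p - 1)) = true := by
    rw [Bool.or_eq_true, Nat.beq_eq, Nat.beq_eq]
    exact h3
  rw [h1, Bool.false_or, h4, Bool.not_true, Bool.false_or, List.all_eq_true] at h
  have h5 : A ∈ List.range (p - 1) := by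
    rw [List.mem_range]
    omega
  have h6 := h A h5
  have h7 : Nat.beq A 0 = false := by
    rw [← Bool.not_eq_true, Nat.beq_eq]
    omega
  rw [h7, Bool.false_or, Bool.and_eq_true, Bool.and_eq_true, Bool.and_eq_true] at h6
  obtain ⟨k1, k2, k3, k4⟩ := h6
  rcases h2 with ⟨h8, h9 | h9⟩ | ⟨h8, h9 | h9⟩
  · have h10 : B = p - 2 - A := by omega
    subst h10
    exact okV_spec k1 hA ha haN hap h9
  · have h10 : B = p - 2 - A := by omega
    subst h10
    exact okV_spec k2 hA ha haN hap (by omega)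
  · have h10 : B = p - 1 - A := by omega
    subst h10
    exact okV_spec k3 hA ha haN hap h9
  · have h10 : B = p - 1 - A := by omega
    subst h10
    exact okV_spec k4 hA ha haN hap (by omega)

/-- **all pairs of divisors satisfying the relation are listed** -/
theorem pairs {p e a b N : ℕ} {E : List ℕ} {L l : List (ℕ × ℕ)} (h : Rel2 p e a b) (hp : p.Prime) (hp5 : 5 ≤ p)
    (he : e ∣ p - 1) (he2 : 2 ≤ e) (ha : 2 ≤ a) (hb : 2 ≤ b) (haN : a ∣ N) (hbN : b ∣ N) (hl : ∀ x ∈ l, x.1.Prime)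
    (hN : prodq l = N) (hE : e ∈ E)
    (h1 : allDiv l 1 (okS p N E L) = true) (h2 : allDiv l 1 (okB p N L) = true) : (a, b) ∈ L ∨ (b, a) ∈ L := by
  have s1 := fun w (hw : w ∣ N) => by
    have := allDiv_spec hl h1 (w := w) (by rw [hN]; exact hw)
    rwa [one_mul] at this
  have s2 := fun w (hw : w ∣ N) => by
    have := allDiv_spec hl h2 (w := w) (by rw [hN]; exact hw)
    rwa [one_mul] at this
  rcases h.cases hp hp5 he he2 ha hb with h3 | h3 | ⟨-, h3 | h3⟩
  · exact Or.inl (okS_spec (by omega) (s1 b hbN) hE ha hb haN h3)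
  · exact Or.inr (okS_spec (by omega) (s1 a haN) hE hb ha hbN h3)
  · exact Or.inl (okB_spec (s2 b hbN) ha hb haN h3)
  · exact Or.inr (okB_spec (s2 a haN) hb ha hbN h3)

end Cfsg.Agent.H859.Five
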