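import Mathlib.Data.Nat.Prime.Basic
import Mathlib.Data.Int.ModEq
import Mathlib.Tactic

/-!
# The numerical relation of a principal block with four degrees (helper859, for S4898)

`Rel p e a b c` : the degree relation of the principal `p`-block (cyclic Sylow subgroup of order `p`, inertial
index `e`) of a perfect group all of whose degrees lie in `{1, a, b, c}`.
`Rel2 p e a b` : the same with two degrees only (if `p` divides `c`).
-/

set_option autoImplicit false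

namespace Cfsg.Agent.H859.Five

/-- a sign -/
def Sg (s : ℤ) : Prop := s = 1 ∨ s = -1

/-- the relation with three nonlinear degrees -/
def Rel (p e a b c : ℕ) : Prop :=
  ∃ (na nb nc : ℕ) (sa sb sc s : ℤ) (f : ℕ), Sg sa ∧ Sg sb ∧ Sg sc ∧ Sg s ∧ (f = 1 ∨ f = a ∨ f = b ∨ f = c) ∧
    1 + na + nb + nc = e ∧ (na ≠ 0 → (p : ℤ) ∣ sa * a - 1) ∧ (nb ≠ 0 → (p : ℤ) ∣ sb * b - 1) ∧
    (nc ≠ 0 → (p : ℤ) ∣ sc * c - 1) ∧ (p : ℤ) ∣ f + e * s ∧
    1 + sa * na * a + sb * nb * b + sc * nc * c + s * f = 0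

/-- the relation with two nonlinear degrees -/
def Rel2 (p e a b : ℕ) : Prop :=
  ∃ (na nb : ℕ) (sa sb s : ℤ) (f : ℕ), Sg sa ∧ Sg sb ∧ Sg s ∧ (f = 1 ∨ f = a ∨ f = b) ∧
    1 + na + nb = e ∧ (na ≠ 0 → (p : ℤ) ∣ sa * a - 1) ∧ (nb ≠ 0 → (p : ℤ) ∣ sb * b - 1) ∧
    (p : ℤ) ∣ f + e * s ∧ 1 + sa * na * a + sb * nb * b + s * f = 0

theorem Rel.swap {p e a b c : ℕ} (h : Rel p e a b c) : Rel p e b a c := by
  obtain ⟨na, nb, nc, sa, sb, sc, s, f, h1, h2, h3, h4, h5, h6, h7, h8, h9, h10, h11⟩ := h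
  refine ⟨nb, na, nc, sb, sa, sc, s, f, h2, h1, h3, h4, by tauto, by omega, h8, h7, h9, h10, ?_⟩
  linarith

theorem Rel.rot {p e a b c : ℕ} (h : Rel p e a b c) : Rel p e b c a := by
  obtain ⟨na, nb, nc, sa, sb, sc, s, f, h1, h2, h3, h4, h5, h6, h7, h8, h9, h10, h11⟩ := h
  refine ⟨nb, nc, na, sb, sc, sa, s, f, h2, h3, h1, h4, by tauto, by omega, h8, h9, h7, h10, ?_⟩
  linarith

theorem Rel2.swap {p e a b : ℕ} (h : Rel2 p e a b) : Rel2 p e b a := by
  obtain ⟨na, nb, sa, sb, s, f, h1, h2, h4, h5, h6, h7, h8, h10, h11⟩ := h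
  refine ⟨nb, na, sb, sa, s, f, h2, h1, h4, by tauto, by omega, h8, h7, h10, ?_⟩
  linarith

theorem Sg.natAbs {s : ℤ} (h : Sg s) : s.natAbs = 1 := by
  rcases h with rfl | rfl <;> rfl

theorem Sg.sq {s : ℤ} (h : Sg s) : s * s = 1 := by
  rcases h with rfl | rfl <;> rfl

/-- a degree divisible by `p` does not occur -/
theorem Rel.drop {p e a b c : ℕ} (h : Rel p e a b c) (hp : p.Prime) (he : e ∣ p - 1) (he2 : 2 ≤ e) (hc : p ∣ c) :
    Rel2 p e a b := by
  obtain ⟨na, nb, nc, sa, sb, sc, s, f, h1, h2, h3, h4, h5, h6, h7, h8, h9, h10, h11⟩ := h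
  have hp2 := hp.two_le
  have hep : e < p := by
    have := Nat.le_of_dvd (by omega) he
    omega
  have hcz : (p : ℤ) ∣ (c : ℤ) := Int.natCast_dvd_natCast.2 hc
  have hnc : nc = 0 := by
    by_contra hne
    have h12 := h9 hne
    have h13 : (p : ℤ) ∣ 1 := by
      have h14 : (p : ℤ) ∣ sc * c := hcz.mul_left sc
      have := dvd_sub h14 h12
      rwa [sub_sub_cancel] at this
    have h14 : p ∣ 1 := by exact_mod_cast h13
    exact absurd (Nat.le_of_dvd one_pos h14) (by omega)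
  have hf : f ≠ c := by
    rintro rfl
    have h12 : (p : ℤ) ∣ e * s := by
      have := dvd_sub h10 hcz
      rwa [add_sub_cancel_left] at this
    have h13 : (p : ℤ) ∣ e := by
      have h14 := h12.mul_right s
      rwa [mul_assoc, h4.sq, mul_one] at h14
    have h14 : p ∣ e := by exact_mod_cast h13
    exact absurd (Nat.le_of_dvd (by omega) h14) (by omega)
  refine ⟨na, nb, sa, sb, s, f, h1, h2, h4, by tauto, by omega, h7, h8, h10, ?_⟩
  rw [hnc] at h11
  push_cast at h11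
  linarith

/-- a divisor `e ≥ 2` of `p - 1` congruent to `± 1` is `p - 1` -/
theorem e_eq {p e : ℕ} (hp : p.Prime) (he : e ∣ p - 1) (he2 : 2 ≤ e) {s t : ℤ} (hs : Sg s) (ht : Sg t)
    (h : (p : ℤ) ∣ t + e * s) : e = p - 1 ∧ t = s := by
  have hp2 := hp.two_le
  have hle := Nat.le_of_dvd (by omega) he
  have key : ∀ k : ℤ, k ∣ k := fun k => dvd_rfl
  rcases hs with rfl | rfl <;> rcases ht with rfl | rfl
  · refine ⟨?_, rfl⟩
    have h1 : (p : ℤ) ∣ ((1 + e : ℕ) : ℤ) := by push_cast; simpa using h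
    have h2 : p ∣ 1 + e := by exact_mod_cast h1
    have h3 := Nat.le_of_dvd (by omega) h2
    omega
  · exfalso
    have h1 : (p : ℤ) ∣ ((e - 1 : ℕ) : ℤ) := by
      rw [Nat.cast_sub (by omega)]
      push_cast
      have : (e : ℤ) - 1 = -1 + e * 1 := by ring
      rwa [this]
    have h2 : p ∣ e - 1 := by exact_mod_cast h1
    have h3 := Nat.le_of_dvd (by omega) h2
    omega
  · exfalso
    have h1 : (p : ℤ) ∣ ((e - 1 : ℕ) : ℤ) := by
      rw [Nat.cast_sub (by omega)]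
      push_cast
      have : (e : ℤ) - 1 = -(1 + e * (-1)) := by ring
      rw [this]
      exact (dvd_neg).2 h
    have h2 : p ∣ e - 1 := by exact_mod_cast h1
    have h3 := Nat.le_of_dvd (by omega) h2
    omega
  · refine ⟨?_, rfl⟩
    have h1 : (p : ℤ) ∣ ((1 + e : ℕ) : ℤ) := by
      push_cast
      have : (1 : ℤ) + e = -(-1 + e * (-1)) := by ring
      rw [this]
      exact (dvd_neg).2 h
    have h2 : p ∣ 1 + e := by exact_mod_cast h1
    have h3 := Nat.le_of_dvd (by omega) h2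
    omega

/-- the possibilities for `a = (e - 1) b ± 1` -/
def Sm (p e a b : ℕ) : Prop :=
  (b % p = 1 ∧ a = (e - 1) * b + 1) ∨ (b % p = p - 1 ∧ a + 1 = (e - 1) * b)

/-- the possibilities for `e = p - 1` -/
def Bg (p a b : ℕ) : Prop :=
  ∃ A B : ℕ, 1 ≤ A ∧ 1 ≤ B ∧ ((A + B = p - 2 ∧ (A * a = B * b + 2 ∨ A * a + 2 = B * b)) ∨
    (A + B = p - 1 ∧ (A * a = B * b + 1 ∨ A * a + 1 = B * b))) ∧ (b % p = 1 ∨ b % p = p - 1) ∧
    (a % p = 1 ∨ a % p = p - 1)

theorem mod_of_sg {p b : ℕ} (hp : 2 ≤ p) {s : ℤ} (h : (p : ℤ) ∣ s * b - 1) :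
    (s = 1 → b % p = 1) ∧ (s = -1 → b % p = p - 1) := by
  constructor
  · rintro rfl
    rw [one_mul] at h
    have h1 : (b : ℤ) ≡ 1 [ZMOD p] := (Int.modEq_iff_dvd.2 (by
      have : (1 : ℤ) - b = -((b : ℤ) - 1) := by ring
      rw [this]; exact (dvd_neg).2 h))
    have h2 : b ≡ 1 [MOD p] := by exact_mod_cast h1
    rw [Nat.ModEq, Nat.mod_eq_of_lt (by omega : 1 < p)] at h2
    exact h2
  · rintro rfl
    have h1 : (p : ℤ) ∣ ((b + 1 : ℕ) : ℤ) := by
      push_cast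
      have : (b : ℤ) + 1 = -(-1 * b - 1) := by ring
      rw [this]; exact (dvd_neg).2 h
    have h2 : p ∣ b + 1 := by exact_mod_cast h1
    obtain ⟨k, hk⟩ := h2
    have hk0 : k ≠ 0 := by
      rintro rfl
      omega
    obtain ⟨j, rfl⟩ := Nat.exists_eq_succ_of_ne_zero hk0
    have h3 : b = p - 1 + p * j := by
      rw [Nat.mul_succ] at hk
      omega
    rw [h3, Nat.add_mul_mod_self_left, Nat.mod_eq_of_lt (by omega)]

/-- the case `f = a` -/
theorem fcase {p e a b : ℕ} (hp : p.Prime) (hp5 : 5 ≤ p) (he : e ∣ p - 1) (he2 : 2 ≤ e) (ha : 2 ≤ a) (hb : 2 ≤ b)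
    {na nb : ℕ} {sa sb s : ℤ} (h1 : Sg sa) (h2 : Sg sb) (h4 : Sg s) (h6 : 1 + na + nb = e)
    (h7 : na ≠ 0 → (p : ℤ) ∣ sa * a - 1) (h8 : nb ≠ 0 → (p : ℤ) ∣ sb * b - 1)
    (h10 : (p : ℤ) ∣ (a : ℤ) + e * s) (h11 : 1 + sa * na * a + sb * nb * b + s * (a : ℤ) = 0) :
    Sm p e a b ∨ (e = p - 1 ∧ Bg p a b) := by
  have hp2 : 2 ≤ p := by omega
  by_cases hna : na = 0
  · subst hna
    have hnb : nb = e - 1 := by omega
    have hnb0 : nb ≠ 0 := by omega
    have h12 := mod_of_sg hp2 (h8 hnb0)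
    have hpos : (2 : ℤ) ≤ nb * b := by
      have h13 : 1 * 2 ≤ nb * b := Nat.mul_le_mul (by omega) hb
      have h14 : ((1 * 2 : ℕ) : ℤ) ≤ ((nb * b : ℕ) : ℤ) := by exact_mod_cast h13
      push_cast at h14
      linarith
    left
    rcases h2 with rfl | rfl <;> rcases h4 with rfl | rfl
    · exfalso
      push_cast at h11
      have : (2 : ℤ) ≤ a := by exact_mod_cast ha
      linarith
    · left
      refine ⟨h12.1 rfl, ?_⟩
      rw [← hnb]
      have h13 : (a : ℤ) = ((nb * b + 1 : ℕ) : ℤ) := by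
        push_cast at h11 ⊢
        linarith
      exact_mod_cast h13
    · right
      refine ⟨h12.2 rfl, ?_⟩
      rw [← hnb]
      have h13 : ((a + 1 : ℕ) : ℤ) = ((nb * b : ℕ) : ℤ) := by
        push_cast at h11 ⊢
        linarith
      exact_mod_cast h13
    · exfalso
      push_cast at h11
      have : (2 : ℤ) ≤ a := by exact_mod_cast ha
      linarith
  · right
    -- `a ≡ sa`, hence `e = p - 1` and `sa = s`
    have h12 := h7 hna
    have h13 : (p : ℤ) ∣ sa + e * s := by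
      have h14 : (p : ℤ) ∣ sa * (sa * a - 1) := h12.mul_left sa
      have h15 : sa + e * s = (a + e * s) - sa * (sa * a - 1) := by
        have := h1.sq
        linear_combination (a : ℤ) * this
      rw [h15]
      exact dvd_sub h10 h14
    obtain ⟨h14, h15⟩ := e_eq hp he he2 h4 h1 h13
    refine ⟨h14, ?_⟩
    subst h15
    have hbpos : (2 : ℤ) ≤ b := by exact_mod_cast hb
    have hapos : (2 : ℤ) ≤ a := by exact_mod_cast ha
    have hApos : (2 : ℤ) ≤ (na + 1) * a := by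
      have h16 : 1 * 2 ≤ (na + 1) * a := Nat.mul_le_mul (by omega) ha
      have h17 : ((1 * 2 : ℕ) : ℤ) ≤ (((na + 1) * a : ℕ) : ℤ) := by exact_mod_cast h16
      push_cast at h17
      linarith
    have hnb0 : nb ≠ 0 := by
      rintro rfl
      rcases h1 with rfl | rfl
      · push_cast at h11; nlinarith
      · push_cast at h11; nlinarith
    have h16 := mod_of_sg hp2 (h8 hnb0)
    have hBpos : (2 : ℤ) ≤ nb * b := by
      have h16 : 1 * 2 ≤ nb * b := Nat.mul_le_mul (by omega) hb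
      have h17 : ((1 * 2 : ℕ) : ℤ) ≤ ((nb * b : ℕ) : ℤ) := by exact_mod_cast h16
      push_cast at h17
      linarith
    have hmod : b % p = 1 ∨ b % p = p - 1 := by
      rcases h2 with rfl | rfl
      · exact Or.inl (h16.1 rfl)
      · exact Or.inr (h16.2 rfl)
    have h16' := mod_of_sg hp2 h12
    have hmod' : a % p = 1 ∨ a % p = p - 1 := by
      rcases h1 with rfl | rfl
      · exact Or.inl (h16'.1 rfl)
      · exact Or.inr (h16'.2 rfl)
    refine ⟨na + 1, nb, by omega, by omega, Or.inr ⟨by omega, ?_⟩, hmod, hmod'⟩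
    rcases h1 with rfl | rfl <;> rcases h2 with rfl | rfl
    · exfalso; linarith
    · right
      have h17 : (((na + 1) * a + 1 : ℕ) : ℤ) = ((nb * b : ℕ) : ℤ) := by
        push_cast
        linarith
      exact_mod_cast h17
    · left
      have h17 : (((na + 1) * a : ℕ) : ℤ) = ((nb * b + 1 : ℕ) : ℤ) := by
        push_cast
        linarith
      exact_mod_cast h17
    · exfalso; linarith

theorem Bg.of_one {p a b : ℕ} (hp : 5 ≤ p) (ha : 2 ≤ a) (hb : 2 ≤ b)
    {na nb : ℕ} {sa sb : ℤ} (h1 : Sg sa) (h2 : Sg sb) (h6 : 1 + na + nb = p - 1)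
    (h7 : na ≠ 0 → (p : ℤ) ∣ sa * a - 1) (h8 : nb ≠ 0 → (p : ℤ) ∣ sb * b - 1) (h11 : 1 + sa * na * a + sb * nb * b + 1 = 0) : Bg p a b := by
  have hp2 : 2 ≤ p := by omega
  have hapos : (2 : ℤ) ≤ a := by exact_mod_cast ha
  have hbpos : (2 : ℤ) ≤ b := by exact_mod_cast hb
  have hA0 : na ≠ 0 := by
    rintro rfl
    have hn : (3 : ℤ) ≤ nb := by
      have : 3 ≤ nb := by omega
      exact_mod_cast this
    rcases h2 with rfl | rfl
    · push_cast at h11; nlinarith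
    · push_cast at h11; nlinarith
  have hB0 : nb ≠ 0 := by
    rintro rfl
    have hn : (3 : ℤ) ≤ na := by
      have : 3 ≤ na := by omega
      exact_mod_cast this
    rcases h1 with rfl | rfl
    · push_cast at h11; nlinarith
    · push_cast at h11; nlinarith
  have h16 := mod_of_sg hp2 (h8 hB0)
  have hmod : b % p = 1 ∨ b % p = p - 1 := by
    rcases h2 with rfl | rfl
    · exact Or.inl (h16.1 rfl)
    · exact Or.inr (h16.2 rfl)
  have hApos : (2 : ℤ) ≤ na * a := by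
    have h16 : 1 * 2 ≤ na * a := Nat.mul_le_mul (by omega) ha
    have h17 : ((1 * 2 : ℕ) : ℤ) ≤ ((na * a : ℕ) : ℤ) := by exact_mod_cast h16
    push_cast at h17
    linarith
  have hBpos : (2 : ℤ) ≤ nb * b := by
    have h16 : 1 * 2 ≤ nb * b := Nat.mul_le_mul (by omega) hb
    have h17 : ((1 * 2 : ℕ) : ℤ) ≤ ((nb * b : ℕ) : ℤ) := by exact_mod_cast h16
    push_cast at h17
    linarith
  have h16' := mod_of_sg hp2 (h7 hA0)
  have hmod' : a % p = 1 ∨ a % p = p - 1 := by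
    rcases h1 with rfl | rfl
    · exact Or.inl (h16'.1 rfl)
    · exact Or.inr (h16'.2 rfl)
  refine ⟨na, nb, by omega, by omega, Or.inl ⟨by omega, ?_⟩, hmod, hmod'⟩
  rcases h1 with rfl | rfl <;> rcases h2 with rfl | rfl
  · exfalso; linarith
  · right
    have h17 : ((na * a + 2 : ℕ) : ℤ) = ((nb * b : ℕ) : ℤ) := by
      push_cast
      linarith
    exact_mod_cast h17
  · left
    have h17 : ((na * a : ℕ) : ℤ) = ((nb * b + 2 : ℕ) : ℤ) := by
      push_cast
      linarith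
    exact_mod_cast h17
  · exfalso; linarith

/-- **the two-term relation** -/
theorem Rel2.cases {p e a b : ℕ} (h : Rel2 p e a b) (hp : p.Prime) (hp5 : 5 ≤ p) (he : e ∣ p - 1) (he2 : 2 ≤ e)
    (ha : 2 ≤ a) (hb : 2 ≤ b) :
    Sm p e a b ∨ Sm p e b a ∨ (e = p - 1 ∧ (Bg p a b ∨ Bg p b a)) := by
  obtain ⟨na, nb, sa, sb, s, f, h1, h2, h4, h5, h6, h7, h8, h10, h11⟩ := h
  rcases h5 with rfl | rfl | rfl
  · -- `f = 1`
    obtain ⟨h12, h13⟩ := e_eq (t := 1) hp he he2 h4 (Or.inl rfl) (by push_cast at h10; exact h10)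
    subst h13
    right; right
    refine ⟨h12, Or.inl ?_⟩
    subst h12
    exact Bg.of_one hp5 ha hb h1 h2 h6 h7 h8 (by push_cast at h11; linarith)
  · rcases fcase hp hp5 he he2 ha hb h1 h2 h4 h6 h7 h8 h10 h11 with h | ⟨h, h'⟩
    · exact Or.inl h
    · exact Or.inr (Or.inr ⟨h, Or.inl h'⟩)
  · rcases fcase hp hp5 he he2 hb ha h2 h1 h4 (by omega : 1 + nb + na = e) h8 h7 h10
      (by linarith) with h | ⟨h, h'⟩
    · exact Or.inr (Or.inl h)
    · exact Or.inr (Or.inr ⟨h, Or.inr h'⟩)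

end Cfsg.Agent.H859.Five
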